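import Mathlib

/-!
# Orthogonal bases of quadratic spaces: the discriminant (S1920, `E₆(q)`; helper308)

* `exists_sq` : the products of the norms of two orthogonal bases differ by a square;
* `exists_one` : dimension four, `F` finite of odd order, the product of the norms a square: there is an orthogonal basis
  of vectors of norm one.
-/

set_option autoImplicit false

namespace Cfsg.Agent.H308.E6

open QuadraticMap

variable {F V : Type*} [Field F] [AddCommGroup V] [Module F V] (Q : QuadraticForm F V)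

/-- The products of the norms of two orthogonal bases differ by a square. -/
theorem exists_sq (h2 : (2 : F) ≠ 0) {ι : Type*} [Fintype ι] [DecidableEq ι] (e e' : Module.Basis ι F V)
    (he : ∀ i j, i ≠ j → polar Q (e i) (e j) = 0) (he' : ∀ i j, i ≠ j → polar Q (e' i) (e' j) = 0) :
    ∃ c : F, c ≠ 0 ∧ ∏ i, Q (e' i) = c ^ 2 * ∏ i, Q (e i) := by
  have key : ∀ b : Module.Basis ι F V, (∀ i j, i ≠ j → polar Q (b i) (b j) = 0) →
      (LinearMap.BilinForm.toMatrix b (polarBilin Q)).det = 2 ^ Fintype.card ι * ∏ i, Q (b i) := by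
    intro b hb
    have h1 : LinearMap.BilinForm.toMatrix b (polarBilin Q) = Matrix.diagonal (fun i => 2 * Q (b i)) := by
      ext i j
      rw [LinearMap.BilinForm.toMatrix_apply, polarBilin_apply_apply]
      by_cases hij : i = j
      · subst hij
        rw [Matrix.diagonal_apply_eq, polar_self, two_mul, two_nsmul]
      · rw [Matrix.diagonal_apply_ne _ hij, hb i j hij]
    rw [h1, Matrix.det_diagonal, Finset.prod_mul_distrib, Finset.prod_const, Finset.card_univ]
  have h3 := LinearMap.BilinForm.toMatrix_mul_basis_toMatrix (b := e) e' (polarBilin Q)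
  have h4 := congrArg Matrix.det h3
  rw [Matrix.det_mul, Matrix.det_mul, Matrix.det_transpose, key e he, key e' he'] at h4
  refine ⟨(e.toMatrix e').det, ?_, ?_⟩
  · intro h0
    have h5 := e.toMatrix_mul_toMatrix_flip e'
    have h6 := congrArg Matrix.det h5
    rw [Matrix.det_mul, h0, zero_mul, Matrix.det_one] at h6
    exact zero_ne_one h6
  · have h7 : (2 : F) ^ Fintype.card ι ≠ 0 := pow_ne_zero _ h2
    apply mul_left_cancel₀ h7
    rw [← h4]
    ring

/-- a plane with an orthogonal basis has a vector of norm one -/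
theorem plane [Fintype F] (h2 : (2 : F) ≠ 0) {u v : V} (huv : polar Q u v = 0) (hu : Q u ≠ 0) (hv : Q v ≠ 0) :
    ∃ x y : F, Q (x • u + y • v) = 1 ∧ Q (-(Q v * y) • u + (Q u * x) • v) = Q u * Q v ∧
      polar Q (x • u + y • v) (-(Q v * y) • u + (Q u * x) • v) = 0 := by
  have hodd : Fintype.card F % 2 = 1 := by
    refine FiniteField.odd_card_of_char_ne_two ?_
    intro h
    exact h2 (by have := CharP.cast_eq_zero (R := F) (p := ringChar F); rw [h] at this; exact_mod_cast this)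
  obtain ⟨x, y, hxy⟩ := FiniteField.exists_root_sum_quadratic (R := F) (f := Polynomial.C (Q u) * Polynomial.X ^ 2)
    (g := Polynomial.C (Q v) * Polynomial.X ^ 2 - 1) (by
      rw [Polynomial.degree_C_mul_X_pow _ hu]; rfl) (by
      have h1 : Polynomial.C (Q v) * Polynomial.X ^ 2 - 1 =
          Polynomial.C (Q v) * Polynomial.X ^ 2 + Polynomial.C 0 * Polynomial.X + Polynomial.C (-1 : F) := by
        rw [Polynomial.C_0, zero_mul, add_zero, Polynomial.C_neg, Polynomial.C_1, sub_eq_add_neg]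
      rw [h1, Polynomial.degree_quadratic hv]) hodd
  simp only [Polynomial.eval_mul, Polynomial.eval_C, Polynomial.eval_pow, Polynomial.eval_X, Polynomial.eval_sub,
    Polynomial.eval_one] at hxy
  have hQ : ∀ a b : F, Q (a • u + b • v) = a * a * Q u + b * b * Q v := by
    intro a b
    have h1 : Q (a • u + b • v) = polar Q (a • u) (b • v) + Q (a • u) + Q (b • v) := by
      rw [polar]; ring
    rw [h1, polar_smul_left, polar_smul_right, huv, QuadraticMap.map_smul, QuadraticMap.map_smul]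
    simp only [smul_eq_mul]
    ring
  have hx : x * x * Q u + y * y * Q v = 1 := by linear_combination hxy
  refine ⟨x, y, by rw [hQ, hx], ?_, ?_⟩
  · rw [hQ]
    linear_combination Q u * Q v * hx
  · have h1 : polar Q (x • u + y • v) (-(Q v * y) • u + (Q u * x) • v) =
        Q ((x + -(Q v * y)) • u + (y + Q u * x) • v) - Q (x • u + y • v) - Q (-(Q v * y) • u + (Q u * x) • v) := by
      rw [polar]
      congr 3
      module
    rw [h1, hQ, hQ, hQ]
    ring

/-- orthogonal vectors of norm one -/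
theorem linInd {n : ℕ} {f : Fin n → V} (hf : ∀ i j, i ≠ j → polar Q (f i) (f j) = 0) (hf1 : ∀ i, Q (f i) = 1)
    (h2 : (2 : F) ≠ 0) : LinearIndependent F f := by
  rw [Fintype.linearIndependent_iff]
  intro g hg i
  have h1 : polarBilin Q (f i) (∑ j, g j • f j) = 0 := by rw [hg, map_zero]
  rw [map_sum, Finset.sum_eq_single i] at h1
  · rw [map_smul, polarBilin_apply_apply, polar_self, hf1, smul_eq_mul] at h1
    have h3 : g i * 2 = 0 := by
      rw [← h1]
      norm_num
    exact (mul_eq_zero.1 h3).resolve_right h2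
  · intro j _ hj
    rw [map_smul, polarBilin_apply_apply, hf i j (Ne.symm hj), smul_zero]
  · intro h
    exact absurd (Finset.mem_univ i) h

/-- **dimension four, square discriminant** -/
theorem exists_one [Fintype F] (h2 : (2 : F) ≠ 0) (hV : Module.finrank F V = 4) {e : Fin 4 → V}
    (he : ∀ i j, i ≠ j → polar Q (e i) (e j) = 0) {c : F} (hc : c ≠ 0) (hd : ∏ i, Q (e i) = c ^ 2) :
    ∃ f : Module.Basis (Fin 4) F V, (∀ i j, i ≠ j → polar Q (f i) (f j) = 0) ∧ ∀ i, Q (f i) = 1 := by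
  rw [Fin.prod_univ_four] at hd
  have hne : Q (e 0) * Q (e 1) * Q (e 2) * Q (e 3) ≠ 0 := by rw [hd]; exact pow_ne_zero 2 hc
  have h0 : Q (e 0) ≠ 0 := fun h => hne (by rw [h]; ring)
  have h1 : Q (e 1) ≠ 0 := fun h => hne (by rw [h]; ring)
  have h2' : Q (e 2) ≠ 0 := fun h => hne (by rw [h]; ring)
  have h3 : Q (e 3) ≠ 0 := fun h => hne (by rw [h]; ring)
  have pp : ∀ (a b a' b' : F) (u v w w' : V), polar Q u w = 0 → polar Q u w' = 0 → polar Q v w = 0 →
      polar Q v w' = 0 → polar Q (a • u + b • v) (a' • w + b' • w') = 0 := by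
    intro a b a' b' u v w w' k1 k2 k3 k4
    rw [polar_add_left, polar_smul_left, polar_smul_left, polar_add_right, polar_add_right, polar_smul_right,
      polar_smul_right, polar_smul_right, polar_smul_right, k1, k2, k3, k4]
    simp only [smul_zero, add_zero]
  have pr : ∀ (a b : F) (u v w : V), polar Q u w = 0 → polar Q v w = 0 → polar Q (a • u + b • v) w = 0 := by
    intro a b u v w k1 k2
    have := pp a b 1 0 u v w w k1 k1 k2 k2
    rwa [one_smul, zero_smul, add_zero] at this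
  have pl : ∀ (a b : F) (u v w : V), polar Q u w = 0 → polar Q v w = 0 → polar Q w (a • u + b • v) = 0 := by
    intro a b u v w k1 k2
    rw [polar_comm]
    exact pr a b u v w k1 k2
  -- first step
  obtain ⟨x, y, a1, a2, a3⟩ := plane Q h2 (he 0 1 (by decide)) h0 h1
  obtain ⟨v0, hv0⟩ : ∃ v, v = x • e 0 + y • e 1 := ⟨_, rfl⟩
  obtain ⟨w1, hw1⟩ : ∃ v, v = -(Q (e 1) * y) • e 0 + (Q (e 0) * x) • e 1 := ⟨_, rfl⟩
  rw [← hv0] at a1 a3
  rw [← hw1] at a2 a3
  have b2 : polar Q v0 (e 2) = 0 := hv0 ▸ pr _ _ _ _ _ (he 0 2 (by decide)) (he 1 2 (by decide))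
  have b3 : polar Q v0 (e 3) = 0 := hv0 ▸ pr _ _ _ _ _ (he 0 3 (by decide)) (he 1 3 (by decide))
  have c2 : polar Q w1 (e 2) = 0 := hw1 ▸ pr _ _ _ _ _ (he 0 2 (by decide)) (he 1 2 (by decide))
  have c3 : polar Q w1 (e 3) = 0 := hw1 ▸ pr _ _ _ _ _ (he 0 3 (by decide)) (he 1 3 (by decide))
  have hw1n : Q w1 ≠ 0 := by rw [a2]; exact mul_ne_zero h0 h1
  -- second step
  obtain ⟨x', y', d1, d2, d3⟩ := plane Q h2 c2 hw1n h2'
  obtain ⟨v1, hv1⟩ : ∃ v, v = x' • w1 + y' • e 2 := ⟨_, rfl⟩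
  obtain ⟨w2, hw2⟩ : ∃ v, v = -(Q (e 2) * y') • w1 + (Q w1 * x') • e 2 := ⟨_, rfl⟩
  rw [← hv1] at d1 d3
  rw [← hw2] at d2 d3
  have e01 : polar Q v0 v1 = 0 := hv1 ▸ pl _ _ _ _ _ (by rw [polar_comm]; exact a3) (by rw [polar_comm]; exact b2)
  have e02 : polar Q v0 w2 = 0 := hw2 ▸ pl _ _ _ _ _ (by rw [polar_comm]; exact a3) (by rw [polar_comm]; exact b2)
  have f3 : polar Q v1 (e 3) = 0 := hv1 ▸ pr _ _ _ _ _ c3 (he 2 3 (by decide))
  have g3 : polar Q w2 (e 3) = 0 := hw2 ▸ pr _ _ _ _ _ c3 (he 2 3 (by decide))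
  have hw2n : Q w2 ≠ 0 := by rw [d2]; exact mul_ne_zero hw1n h2'
  -- third step
  obtain ⟨x'', y'', k1, k2, k3⟩ := plane Q h2 g3 hw2n h3
  obtain ⟨v2, hv2⟩ : ∃ v, v = x'' • w2 + y'' • e 3 := ⟨_, rfl⟩
  obtain ⟨w3, hw3⟩ : ∃ v, v = -(Q (e 3) * y'') • w2 + (Q w2 * x'') • e 3 := ⟨_, rfl⟩
  rw [← hv2] at k1 k3
  rw [← hw3] at k2 k3
  have m02 : polar Q v0 v2 = 0 := hv2 ▸ pl _ _ _ _ _ (by rw [polar_comm]; exact e02) (by rw [polar_comm]; exact b3)
  have m03 : polar Q v0 w3 = 0 := hw3 ▸ pl _ _ _ _ _ (by rw [polar_comm]; exact e02) (by rw [polar_comm]; exact b3)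
  have m12 : polar Q v1 v2 = 0 := hv2 ▸ pl _ _ _ _ _ (by rw [polar_comm]; exact d3) (by rw [polar_comm]; exact f3)
  have m13 : polar Q v1 w3 = 0 := hw3 ▸ pl _ _ _ _ _ (by rw [polar_comm]; exact d3) (by rw [polar_comm]; exact f3)
  have hw3c : Q w3 = c ^ 2 := by rw [k2, d2, a2, hd]
  obtain ⟨v3, hv3⟩ : ∃ v, v = c⁻¹ • w3 := ⟨_, rfl⟩
  have hv3q : Q v3 = 1 := by
    rw [hv3, QuadraticMap.map_smul, hw3c, smul_eq_mul]
    field_simp
  have s3 : ∀ u, polar Q u w3 = 0 → polar Q u v3 = 0 := by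
    intro u hu
    rw [hv3, polar_smul_right, hu, smul_zero]
  have n03 := s3 v0 m03
  have n13 := s3 v1 m13
  have n23 := s3 v2 k3
  let f : Fin 4 → V := ![v0, v1, v2, v3]
  have hf1 : ∀ i, Q (f i) = 1 := by
    intro i
    fin_cases i
    · exact a1
    · exact d1
    · exact k1
    · exact hv3q
  have hf : ∀ i j, i ≠ j → polar Q (f i) (f j) = 0 := by
    have hlt : ∀ i j, i < j → polar Q (f i) (f j) = 0 := by
      intro i j hij
      fin_cases i <;> fin_cases j <;> first | exact absurd hij (by decide) | assumption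
    intro i j hij
    rcases lt_or_gt_of_ne hij with h | h
    · exact hlt i j h
    · rw [polar_comm]; exact hlt j i h
  have hli := linInd Q hf hf1 h2
  refine ⟨basisOfLinearIndependentOfCardEqFinrank hli (by rw [hV, Fintype.card_fin]), ?_, ?_⟩
  · intro i j hij
    rw [coe_basisOfLinearIndependentOfCardEqFinrank]
    exact hf i j hij
  · intro i
    rw [coe_basisOfLinearIndependentOfCardEqFinrank]
    exact hf1 i

end Cfsg.Agent.H308.E6
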