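import Cfsg.Agent.H308.E6.Gram

/-!
# Quaternions on a quadratic space of dimension four, square discriminant (S1920, `E₆(q)`; helper308)

* `exists_one_span` : four orthogonal vectors, the product of the norms a square, `F` finite of odd order: there are four
  orthogonal vectors of norm one in their span;
* `T A` : the linear map of `V` with the matrix `A` on `w 0, .., w 3` and trivial on the orthogonal complement;
* `exists_quat` : the isometries `L_i, L_j, R_i, R_j` and `-1` on the span.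
-/

set_option autoImplicit false

namespace Cfsg.Agent.H308.E6

open QuadraticMap

variable {F V : Type*} [Field F] [AddCommGroup V] [Module F V] (Q : QuadraticForm F V)

/-- **square discriminant** -/
theorem exists_one_span [Fintype F] (h2 : (2 : F) ≠ 0) {e : Fin 4 → V}
    (he : ∀ i j, i ≠ j → polar Q (e i) (e j) = 0) {c : F} (hc : c ≠ 0) (hd : ∏ i, Q (e i) = c ^ 2) :
    ∃ f : Fin 4 → V, (∀ i, f i ∈ Submodule.span F (Set.range e)) ∧ (∀ i j, i ≠ j → polar Q (f i) (f j) = 0) ∧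
      ∀ i, Q (f i) = 1 := by
  obtain ⟨S, hS⟩ : ∃ S, S = Submodule.span F (Set.range e) := ⟨_, rfl⟩
  have hne : ∀ i, Q (e i) ≠ 0 := by
    intro i h
    refine pow_ne_zero 2 hc ?_
    rw [← hd]
    exact Finset.prod_eq_zero (Finset.mem_univ i) h
  have hli : LinearIndependent F e := by
    rw [Fintype.linearIndependent_iff]
    intro g hg i
    have h1 : polarBilin Q (e i) (∑ j, g j • e j) = 0 := by rw [hg, map_zero]
    rw [map_sum, Finset.sum_eq_single i] at h1
    · rw [map_smul, polarBilin_apply_apply, polar_self, smul_eq_mul, two_nsmul, ← two_mul] at h1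
      rcases mul_eq_zero.1 h1 with h3 | h3
      · exact h3
      · exact absurd h3 (mul_ne_zero h2 (hne i))
    · intro j _ hj
      rw [map_smul, polarBilin_apply_apply, he i j (Ne.symm hj), smul_zero]
    · intro h
      exact absurd (Finset.mem_univ i) h
  let e' : Fin 4 → S := fun i => ⟨e i, by rw [hS]; exact Submodule.subset_span ⟨i, rfl⟩⟩
  have hfin : Module.finrank F S = 4 := by
    rw [hS, finrank_span_eq_card hli, Fintype.card_fin]
  have hp : ∀ x y : S, polar (Q.comp S.subtype) x y = polar Q (x : V) y := by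
    intro x y
    rw [polar, polar]
    simp
  obtain ⟨f, hf, hf1⟩ := exists_one (Q.comp S.subtype) h2 hfin (e := e') (fun i j hij => by
    rw [hp]; exact he i j hij) hc (by
      rw [← hd]; rfl)
  refine ⟨fun i => f i, fun i => by rw [← hS]; exact (f i).2, fun i j hij => ?_, fun i => hf1 i⟩
  rw [← hp]
  exact hf i j hij

section T

variable {Q} (w : Fin 4 → V)

variable (Q) in
/-- the coordinate -/
noncomputable def co (j : Fin 4) : V →ₗ[F] F := (2 : F)⁻¹ • polarBilin Q (w j)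

theorem co_apply (j : Fin 4) (v : V) : co Q w j v = (2 : F)⁻¹ * polar Q (w j) v := rfl

variable {w}

theorem co_w (h2 : (2 : F) ≠ 0) (hw : ∀ i j, i ≠ j → polar Q (w i) (w j) = 0) (hw1 : ∀ i, Q (w i) = 1) (i j : Fin 4) :
    co Q w j (w i) = if j = i then 1 else 0 := by
  rw [co_apply]
  split_ifs with h
  · subst h
    rw [polar_self, hw1, two_nsmul, one_add_one_eq_two, inv_mul_cancel₀ h2]
  · rw [hw j i h, mul_zero]

variable (Q w) in
/-- the linear map with the matrix `A` on the `w i` and trivial on the complement -/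
noncomputable def T (A : Matrix (Fin 4) (Fin 4) F) : V →ₗ[F] V :=
  LinearMap.id + ∑ i, ∑ j, (A - 1) i j • (co Q w j).smulRight (w i)

theorem T_apply (A : Matrix (Fin 4) (Fin 4) F) (v : V) :
    T Q w A v = v + ∑ i, (∑ j, (A - 1) i j * co Q w j v) • w i := by
  unfold T
  rw [LinearMap.add_apply, LinearMap.id_apply, LinearMap.sum_apply]
  congr 1
  refine Finset.sum_congr rfl fun i _ => ?_
  rw [LinearMap.sum_apply, Finset.sum_smul]
  refine Finset.sum_congr rfl fun j _ => ?_
  rw [LinearMap.smul_apply, LinearMap.smulRight_apply, smul_smul]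

theorem T_w (h2 : (2 : F) ≠ 0) (hw : ∀ i j, i ≠ j → polar Q (w i) (w j) = 0) (hw1 : ∀ i, Q (w i) = 1)
    (A : Matrix (Fin 4) (Fin 4) F) (k : Fin 4) : T Q w A (w k) = ∑ i, A i k • w i := by
  rw [T_apply]
  have h1 : ∀ i, (∑ j, (A - 1) i j * co Q w j (w k)) = (A - 1) i k := by
    intro i
    rw [Finset.sum_eq_single k]
    · rw [co_w h2 hw hw1, if_pos rfl, mul_one]
    · intro j _ hj
      rw [co_w h2 hw hw1, if_neg hj, mul_zero]
    · intro h
      exact absurd (Finset.mem_univ k) h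
  simp only [h1]
  simp only [Matrix.sub_apply, sub_smul, Finset.sum_sub_distrib]
  have h3 : ∑ i, (1 : Matrix (Fin 4) (Fin 4) F) i k • w i = w k := by
    rw [Finset.sum_eq_single k]
    · rw [Matrix.one_apply_eq, one_smul]
    · intro j _ hj
      rw [Matrix.one_apply_ne hj, zero_smul]
    · intro h
      exact absurd (Finset.mem_univ k) h
  rw [h3]
  abel

theorem T_perp (A : Matrix (Fin 4) (Fin 4) F) {v : V} (hv : ∀ i, polar Q (w i) v = 0) : T Q w A v = v := by
  rw [T_apply]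
  have h1 : ∀ i, (∑ j, (A - 1) i j * co Q w j v) = 0 := by
    intro i
    refine Finset.sum_eq_zero fun j _ => ?_
    rw [co_apply, hv, mul_zero, mul_zero]
  simp only [h1, zero_smul, Finset.sum_const_zero, add_zero]

theorem co_T (h2 : (2 : F) ≠ 0) (hw : ∀ i j, i ≠ j → polar Q (w i) (w j) = 0) (hw1 : ∀ i, Q (w i) = 1)
    (A : Matrix (Fin 4) (Fin 4) F) (v : V) (k : Fin 4) : co Q w k (T Q w A v) = ∑ j, A k j * co Q w j v := by
  rw [T_apply, map_add, map_sum]
  have h1 : ∀ i, co Q w k ((∑ j, (A - 1) i j * co Q w j v) • w i) =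
      (∑ j, (A - 1) i j * co Q w j v) * if k = i then 1 else 0 := by
    intro i
    rw [map_smul, co_w h2 hw hw1, smul_eq_mul]
  simp only [h1]
  rw [Finset.sum_eq_single k]
  · rw [if_pos rfl, mul_one]
    simp only [Matrix.sub_apply, sub_mul, Finset.sum_sub_distrib]
    have h3 : ∑ j, (1 : Matrix (Fin 4) (Fin 4) F) k j * co Q w j v = co Q w k v := by
      rw [Finset.sum_eq_single k]
      · rw [Matrix.one_apply_eq, one_mul]
      · intro j _ hj
        rw [Matrix.one_apply_ne (Ne.symm hj), zero_mul]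
      · intro h
        exact absurd (Finset.mem_univ k) h
    rw [h3]
    ring
  · intro j _ hj
    rw [if_neg (Ne.symm hj), mul_zero]
  · intro h
    exact absurd (Finset.mem_univ k) h

theorem T_mul (h2 : (2 : F) ≠ 0) (hw : ∀ i j, i ≠ j → polar Q (w i) (w j) = 0) (hw1 : ∀ i, Q (w i) = 1)
    (A B : Matrix (Fin 4) (Fin 4) F) (v : V) : T Q w (A * B) v = T Q w A (T Q w B v) := by
  rw [T_apply, T_apply (w := w) A (T Q w B v)]
  simp only [co_T h2 hw hw1]
  rw [T_apply]
  rw [add_assoc, ← Finset.sum_add_distrib]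
  congr 1
  refine Finset.sum_congr rfl fun i _ => ?_
  rw [← add_smul]
  congr 1
  have h3 : ∀ (X Y : Matrix (Fin 4) (Fin 4) F) (u : Fin 4 → F), ∑ j, X i j * ∑ k, Y j k * u k = ∑ k, (X * Y) i k * u k := by
    intro X Y u
    simp only [Matrix.mul_apply, Finset.mul_sum, Finset.sum_mul]
    rw [Finset.sum_comm]
    refine Finset.sum_congr rfl fun k _ => Finset.sum_congr rfl fun j _ => by ring
  rw [h3 (A - 1) B (fun k => co Q w k v), ← Finset.sum_add_distrib]
  refine Finset.sum_congr rfl fun k _ => ?_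
  have h5 : A * B - 1 = (B - 1) + (A - 1) * B := by
    rw [sub_mul, one_mul]
    abel
  rw [← add_mul, ← Matrix.add_apply, h5]

theorem T_one (v : V) : T Q w 1 v = v := by
  rw [T_apply]
  simp

/-- the norm -/
theorem Q_split (h2 : (2 : F) ≠ 0) (hw : ∀ i j, i ≠ j → polar Q (w i) (w j) = 0) (hw1 : ∀ i, Q (w i) = 1)
    (A : Matrix (Fin 4) (Fin 4) F) (hA : A.transpose * A = 1) (v : V) : Q (T Q w A v) = Q v := by
  -- `v = v' + Σ c_i w_i`
  have key : ∀ (u : V), (∀ i, polar Q (w i) u = 0) → ∀ c : Fin 4 → F, Q (u + ∑ i, c i • w i) = Q u + ∑ i, c i ^ 2 := by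
    intro u hu c
    have h1 : ∀ (s : Finset (Fin 4)), Q (u + ∑ i ∈ s, c i • w i) = Q u + ∑ i ∈ s, c i ^ 2 := by
      intro s
      induction s using Finset.induction_on with
      | empty => simp
      | insert a s ha ih =>
        rw [Finset.sum_insert ha, Finset.sum_insert ha]
        have h3 : u + (c a • w a + ∑ i ∈ s, c i • w i) = c a • w a + (u + ∑ i ∈ s, c i • w i) := by abel
        have h4 : polar Q (c a • w a) (u + ∑ i ∈ s, c i • w i) = 0 := by
          rw [polar_smul_left, polar_add_right, hu, zero_add, ← polarBilin_apply_apply, map_sum,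
            Finset.sum_eq_zero, smul_zero]
          intro j hj
          rw [map_smul, polarBilin_apply_apply, hw a j (fun h => ha (h ▸ hj)), smul_zero]
        have h5 : Q (c a • w a + (u + ∑ i ∈ s, c i • w i)) = polar Q (c a • w a) (u + ∑ i ∈ s, c i • w i) +
            Q (c a • w a) + Q (u + ∑ i ∈ s, c i • w i) := by rw [polar]; ring
        rw [h3, h5, h4, ih, QuadraticMap.map_smul, hw1, smul_eq_mul]
        ring
    exact h1 Finset.univ
  obtain ⟨u, hu⟩ : ∃ u, u = v - ∑ i, co Q w i v • w i := ⟨_, rfl⟩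
  have huo : ∀ i, polar Q (w i) u = 0 := by
    intro i
    have h1 : co Q w i u = 0 := by
      rw [hu, map_sub, map_sum]
      have h3 : ∀ j, co Q w i (co Q w j v • w j) = co Q w j v * if i = j then 1 else 0 := by
        intro j
        rw [map_smul, co_w h2 hw hw1, smul_eq_mul]
      simp only [h3]
      rw [Finset.sum_eq_single i]
      · rw [if_pos rfl, mul_one, sub_self]
      · intro j _ hj
        rw [if_neg (Ne.symm hj), mul_zero]
      · intro h
        exact absurd (Finset.mem_univ i) h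
    rw [co_apply] at h1
    exact (mul_eq_zero.1 h1).resolve_left (inv_ne_zero h2)
  have hv : v = u + ∑ i, co Q w i v • w i := by rw [hu]; abel
  have hT : T Q w A v = u + ∑ i, (∑ j, A i j * co Q w j v) • w i := by
    conv_lhs => rw [hv]
    rw [map_add, T_perp A huo, map_sum]
    congr 1
    simp only [map_smul, T_w h2 hw hw1, Finset.smul_sum, smul_smul]
    rw [Finset.sum_comm]
    refine Finset.sum_congr rfl fun i _ => ?_
    rw [Finset.sum_smul]
    refine Finset.sum_congr rfl fun j _ => ?_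
    rw [mul_comm]
  rw [hT, key u huo]
  conv_rhs => rw [hv, key u huo]
  congr 1
  -- orthogonal matrices
  have h3 : ∀ c : Fin 4 → F, ∑ i, (∑ j, A i j * c j) ^ 2 = ∑ i, c i ^ 2 := by
    intro c
    have h4 : ∑ i, (∑ j, A i j * c j) ^ 2 = dotProduct (A.mulVec c) (A.mulVec c) := by
      unfold dotProduct Matrix.mulVec dotProduct
      exact Finset.sum_congr rfl fun i _ => _root_.sq _
    rw [h4, Matrix.dotProduct_mulVec, ← Matrix.mulVec_transpose, Matrix.mulVec_mulVec, hA, Matrix.one_mulVec]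
    unfold dotProduct
    exact Finset.sum_congr rfl fun i _ => (_root_.sq _).symm
  exact h3 fun j => co Q w j v

theorem det_T [FiniteDimensional F V] (h2 : (2 : F) ≠ 0) (hw : ∀ i j, i ≠ j → polar Q (w i) (w j) = 0)
    (hw1 : ∀ i, Q (w i) = 1) (A : Matrix (Fin 4) (Fin 4) F) : LinearMap.det (T Q w A) = A.det := by
  classical
  let b := Module.finBasis F V
  rw [← LinearMap.det_toMatrix b]
  let Wm : Matrix (Fin (Module.finrank F V)) (Fin 4) F := fun k i => b.repr (w i) k
  let Cm : Matrix (Fin 4) (Fin (Module.finrank F V)) F := fun j k => co Q w j (b k)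
  have h1 : LinearMap.toMatrix b b (T Q w A) = 1 + Wm * ((A - 1) * Cm) := by
    ext k l
    rw [LinearMap.toMatrix_apply, T_apply, map_add, map_sum, Finsupp.add_apply, Matrix.add_apply, Matrix.mul_apply]
    congr 1
    · rw [b.repr_self, Finsupp.single_apply, Matrix.one_apply]
      by_cases h : l = k
      · rw [if_pos h, if_pos h.symm]
      · rw [if_neg h, if_neg (Ne.symm h)]
    · rw [Finsupp.finsetSum_apply]
      refine Finset.sum_congr rfl fun i _ => ?_
      rw [map_smul, Finsupp.smul_apply, smul_eq_mul, Matrix.mul_apply, mul_comm]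
  have h3 : Cm * Wm = 1 := by
    ext i j
    rw [Matrix.mul_apply]
    have h4 : co Q w i (w j) = ∑ k, Cm i k * Wm k j := by
      conv_lhs => rw [← b.sum_repr (w j), map_sum]
      refine Finset.sum_congr rfl fun k _ => ?_
      rw [map_smul, smul_eq_mul, mul_comm]
    rw [← h4, co_w h2 hw hw1, Matrix.one_apply]
  rw [h1, Matrix.det_one_add_mul_comm, Matrix.mul_assoc, h3, Matrix.mul_one]
  congr 1
  abel

/-- the linear equivalence of an orthogonal matrix -/
noncomputable def te (h2 : (2 : F) ≠ 0) (hw : ∀ i j, i ≠ j → polar Q (w i) (w j) = 0) (hw1 : ∀ i, Q (w i) = 1)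
    (A : Matrix (Fin 4) (Fin 4) F) (hA : A.transpose * A = 1) : V ≃ₗ[F] V :=
  LinearEquiv.ofLinearMap (T Q w A) (T Q w A.transpose)
    (LinearMap.ext fun v => by
      rw [LinearMap.comp_apply, ← T_mul h2 hw hw1, mul_eq_one_comm.1 hA, T_one]; rfl)
    (LinearMap.ext fun v => by
      rw [LinearMap.comp_apply, ← T_mul h2 hw hw1, hA, T_one]; rfl)

end T

/-- the quaternion matrices over `ℤ` -/
def iA : Matrix (Fin 4) (Fin 4) ℤ := !![0, -1, 0, 0; 1, 0, 0, 0; 0, 0, 0, -1; 0, 0, 1, 0]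
def iB : Matrix (Fin 4) (Fin 4) ℤ := !![0, 0, -1, 0; 0, 0, 0, 1; 1, 0, 0, 0; 0, -1, 0, 0]
def iC : Matrix (Fin 4) (Fin 4) ℤ := !![0, -1, 0, 0; 1, 0, 0, 0; 0, 0, 0, 1; 0, 0, -1, 0]
def iD : Matrix (Fin 4) (Fin 4) ℤ := !![0, 0, -1, 0; 0, 0, 0, -1; 1, 0, 0, 0; 0, 1, 0, 0]

theorem exists_mats (F : Type*) [Field F] : ∃ A B C D : Matrix (Fin 4) (Fin 4) F,
    A.transpose * A = 1 ∧ B.transpose * B = 1 ∧ C.transpose * C = 1 ∧ D.transpose * D = 1 ∧
    A * A = -1 ∧ B * B = -1 ∧ C * C = -1 ∧ D * D = -1 ∧ A * B = -1 * (B * A) ∧ C * D = -1 * (D * C) ∧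
    A * C = C * A ∧ A * D = D * A ∧ B * C = C * B ∧ B * D = D * B ∧ A.det = 1 ∧ B.det = 1 ∧ C.det = 1 ∧ D.det = 1 := by
  let f := (Int.castRingHom F).mapMatrix (m := Fin 4)
  have ht : ∀ X, (f X).transpose = f X.transpose := fun X => rfl
  have hd : ∀ X : Matrix (Fin 4) (Fin 4) ℤ, X.det = 1 → (f X).det = 1 := by
    intro X hX
    rw [← RingHom.map_det, hX, map_one]
  have hm : ∀ X Y Z : Matrix (Fin 4) (Fin 4) ℤ, X * Y = Z → f X * f Y = f Z := by
    intro X Y Z h
    rw [← map_mul, h]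
  have h1 : f 1 = 1 := map_one f
  have hn : f (-1) = -1 := by rw [map_neg, map_one]
  refine ⟨f iA, f iB, f iC, f iD, ?_, ?_, ?_, ?_, ?_, ?_, ?_, ?_, ?_, ?_, ?_, ?_, ?_, ?_, ?_, ?_, ?_, ?_⟩
  · rw [ht, hm _ _ 1 (by decide), h1]
  · rw [ht, hm _ _ 1 (by decide), h1]
  · rw [ht, hm _ _ 1 (by decide), h1]
  · rw [ht, hm _ _ 1 (by decide), h1]
  · rw [hm _ _ (-1) (by decide), hn]
  · rw [hm _ _ (-1) (by decide), hn]
  · rw [hm _ _ (-1) (by decide), hn]
  · rw [hm _ _ (-1) (by decide), hn]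
  · rw [hm iA iB (-1 * (iB * iA)) (by decide), map_mul, hn, map_mul]
  · rw [hm iC iD (-1 * (iD * iC)) (by decide), map_mul, hn, map_mul]
  · rw [hm iA iC (iC * iA) (by decide), map_mul]
  · rw [hm iA iD (iD * iA) (by decide), map_mul]
  · rw [hm iB iC (iC * iB) (by decide), map_mul]
  · rw [hm iB iD (iD * iB) (by decide), map_mul]
  · exact hd _ (by decide)
  · exact hd _ (by decide)
  · exact hd _ (by decide)
  · exact hd _ (by decide)

/-- **The quaternions on the span of `w 0, .., w 3`.** -/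
theorem exists_quat [FiniteDimensional F V] (h2 : (2 : F) ≠ 0) {w : Fin 4 → V}
    (hw : ∀ i j, i ≠ j → polar Q (w i) (w j) = 0) (hw1 : ∀ i, Q (w i) = 1) :
    ∃ (a b c d m : V ≃ₗ[F] V),
      (∀ x ∈ ({a, b, c, d, m} : Set (V ≃ₗ[F] V)), (∀ v, Q (x v) = Q v) ∧ LinearMap.det (x : V →ₗ[F] V) = 1 ∧
        (∀ v, (∀ i, polar Q (w i) v = 0) → x v = v) ∧ (∀ i, x (w i) ∈ Submodule.span F (Set.range w))) ∧
      (∀ i, m (w i) = -w i) ∧ a * a = m ∧ b * b = m ∧ c * c = m ∧ d * d = m ∧ m * m = 1 ∧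
      a * b = m * (b * a) ∧ c * d = m * (d * c) ∧ a * c = c * a ∧ a * d = d * a ∧ b * c = c * b ∧ b * d = d * b ∧
      m * a = a * m ∧ m * b = b * m ∧ m * c = c * m ∧ m * d = d * m := by
  obtain ⟨A, B, C, D, oA, oB, oC, oD, AA, BB, CC, DD, AB, CD, AC, AD, BC, BD, dA, dB, dC, dD⟩ := exists_mats F
  have oM : (-1 : Matrix (Fin 4) (Fin 4) F).transpose * (-1) = 1 := by simp
  have dM : (-1 : Matrix (Fin 4) (Fin 4) F).det = 1 := by
    rw [Matrix.det_neg, Matrix.det_one, Fintype.card_fin]; norm_num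
  have app : ∀ (X : Matrix (Fin 4) (Fin 4) F) (hX : X.transpose * X = 1) (v : V),
      te h2 hw hw1 X hX v = T Q w X v := fun _ _ _ => rfl
  have good : ∀ (X : Matrix (Fin 4) (Fin 4) F) (hX : X.transpose * X = 1) (_ : X.det = 1),
      (∀ v, Q (te h2 hw hw1 X hX v) = Q v) ∧ LinearMap.det (te h2 hw hw1 X hX : V →ₗ[F] V) = 1 ∧
        (∀ v, (∀ i, polar Q (w i) v = 0) → te h2 hw hw1 X hX v = v) ∧
        (∀ i, te h2 hw hw1 X hX (w i) ∈ Submodule.span F (Set.range w)) := by
    intro X hX hd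
    refine ⟨fun v => Q_split h2 hw hw1 X hX v, ?_, fun v hv => T_perp X hv, fun i => ?_⟩
    · have h3 : (te h2 hw hw1 X hX : V →ₗ[F] V) = T Q w X := rfl
      rw [h3, det_T h2 hw hw1, hd]
    · rw [app, T_w h2 hw hw1]
      exact Submodule.sum_mem _ fun j _ => Submodule.smul_mem _ _ (Submodule.subset_span ⟨j, rfl⟩)
  have hmul : ∀ (X Y Z : Matrix (Fin 4) (Fin 4) F) (hX : X.transpose * X = 1) (hY : Y.transpose * Y = 1)
      (hZ : Z.transpose * Z = 1), X * Y = Z → te h2 hw hw1 X hX * te h2 hw hw1 Y hY = te h2 hw hw1 Z hZ := by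
    intro X Y Z hX hY hZ h
    subst h
    ext v
    exact (T_mul h2 hw hw1 X Y v).symm
  have hone : ∀ (h : (1 : Matrix (Fin 4) (Fin 4) F).transpose * 1 = 1), te h2 hw hw1 1 h = 1 := by
    intro h
    ext v
    exact T_one v
  have oo : ∀ {X Y : Matrix (Fin 4) (Fin 4) F}, X.transpose * X = 1 → Y.transpose * Y = 1 →
      (X * Y).transpose * (X * Y) = 1 := by
    intro X Y hX hY
    rw [Matrix.transpose_mul, Matrix.mul_assoc, ← Matrix.mul_assoc X.transpose, hX, Matrix.one_mul, hY]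
  have hcomm : ∀ (X Y : Matrix (Fin 4) (Fin 4) F) (hX : X.transpose * X = 1) (hY : Y.transpose * Y = 1), X * Y = Y * X →
      te h2 hw hw1 X hX * te h2 hw hw1 Y hY = te h2 hw hw1 Y hY * te h2 hw hw1 X hX := by
    intro X Y hX hY h
    rw [hmul X Y _ hX hY (oo hX hY) rfl, hmul Y X (X * Y) hY hX (oo hX hY) h.symm]
  have hanti : ∀ (X Y : Matrix (Fin 4) (Fin 4) F) (hX : X.transpose * X = 1) (hY : Y.transpose * Y = 1),
      X * Y = -1 * (Y * X) →
      te h2 hw hw1 X hX * te h2 hw hw1 Y hY = te h2 hw hw1 (-1) oM * (te h2 hw hw1 Y hY * te h2 hw hw1 X hX) := by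
    intro X Y hX hY h
    rw [hmul X Y _ hX hY (oo hX hY) rfl, hmul Y X _ hY hX (oo hY hX) rfl, hmul (-1) (Y * X) (X * Y) oM (oo hY hX)
      (oo hX hY) h.symm]
  refine ⟨te h2 hw hw1 A oA, te h2 hw hw1 B oB, te h2 hw hw1 C oC, te h2 hw hw1 D oD, te h2 hw hw1 (-1) oM, ?_, ?_,
    hmul _ _ _ _ _ _ AA, hmul _ _ _ _ _ _ BB, hmul _ _ _ _ _ _ CC, hmul _ _ _ _ _ _ DD, ?_, hanti _ _ _ _ AB,
    hanti _ _ _ _ CD, hcomm _ _ _ _ AC, hcomm _ _ _ _ AD, hcomm _ _ _ _ BC, hcomm _ _ _ _ BD, ?_, ?_, ?_, ?_⟩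
  · intro x hx
    simp only [Set.mem_insert_iff, Set.mem_singleton_iff] at hx
    rcases hx with rfl | rfl | rfl | rfl | rfl
    · exact good A oA dA
    · exact good B oB dB
    · exact good C oC dC
    · exact good D oD dD
    · exact good _ oM dM
  · intro i
    rw [app, T_w h2 hw hw1, Finset.sum_eq_single i]
    · rw [Matrix.neg_apply, Matrix.one_apply_eq, neg_smul, one_smul]
    · intro j _ hj
      rw [Matrix.neg_apply, Matrix.one_apply_ne hj, neg_zero, zero_smul]
    · intro h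
      exact absurd (Finset.mem_univ i) h
  · rw [hmul (-1) (-1) 1 oM oM (by simp) (by simp), hone]
  · exact hcomm _ _ _ _ (by simp)
  · exact hcomm _ _ _ _ (by simp)
  · exact hcomm _ _ _ _ (by simp)
  · exact hcomm _ _ _ _ (by simp)

end Cfsg.Agent.H308.E6
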